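import Mathlib.RingTheory.HopfAlgebra.Quotient
import Mathlib.RingTheory.HopfAlgebra.TensorProduct
import Mathlib.RingTheory.DedekindDomain.Basic
import Mathlib.RingTheory.Localization.FractionRing
import Mathlib.RingTheory.Localization.BaseChange
import Mathlib.RingTheory.Flat.TorsionFree
import Mathlib.RingTheory.Flat.Stability
import Mathlib.RingTheory.Flat.Localization

set_option autoImplicit false

open TensorProduct Coalgebra HopfAlgebra
open scoped nonZeroDivisors

namespace Groth.Agent.HopfGenFib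

universe u

variable {R : Type u} [CommRing R] [IsDomain R] {K : Type u} [Field K] [Algebra R K]
  [IsFractionRing R K] {A : Type u} [CommRing A] [HopfAlgebra R A]

variable (R K A) in
/-- the inclusion a ↦ 1 ⊗ a -/
noncomputable abbrev incl : A →ₐ[R] K ⊗[R] A := Algebra.TensorProduct.includeRight

lemma smul_inclu (r : R) (a : A) :
    (algebraMap R K r) ⊗ₜ[R] a = incl R K A (r • a) := by
  rw [Algebra.algebraMap_eq_smul_one, smul_tmul]; rfl

lemma exists_eq (z : K ⊗[R] A) :
    ∃ (s : R) (a : A), s ≠ 0 ∧ (algebraMap R K s) • z = incl R K A a := by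
  induction z with
  | zero => exact ⟨1, 0, one_ne_zero, by simp⟩
  | tmul k a =>
    obtain ⟨r, s, hs, rfl⟩ := IsFractionRing.div_surjective R k
    refine ⟨s, r • a, nonZeroDivisors.ne_zero hs, ?_⟩
    rw [smul_tmul', ← smul_inclu, smul_eq_mul, mul_div_cancel₀]
    exact IsFractionRing.to_map_ne_zero_of_mem_nonZeroDivisors hs
  | add x y hx hy =>
    obtain ⟨s, a, hs, ha⟩ := hx
    obtain ⟨t, b, ht, hb⟩ := hy
    refine ⟨t * s, t • a + s • b, mul_ne_zero ht hs, ?_⟩
    rw [map_add, map_smul, map_smul, ← ha, ← hb, smul_add, map_mul,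
      ← algebraMap_smul K t ((algebraMap R K s) • x), ← algebraMap_smul K s ((algebraMap R K t) • y),
      smul_smul, smul_smul, mul_comm (algebraMap R K s) (algebraMap R K t)]

variable (K) in
lemma aux_ne {s : R} (hs : s ≠ 0) : algebraMap R K s ≠ 0 :=
  (map_ne_zero_iff _ (IsFractionRing.injective R K)).2 hs

lemma mem_map_iff (J' : Ideal A) (z : K ⊗[R] A) :
    z ∈ J'.map (incl R K A) ↔
      ∃ (s : R) (b : A), s ≠ 0 ∧ b ∈ J' ∧ (algebraMap R K s) • z = incl R K A b := by
  constructor
  · intro hz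
    induction hz using Submodule.span_induction with
    | mem x hx =>
      obtain ⟨b, hb, rfl⟩ := hx
      exact ⟨1, b, one_ne_zero, hb, by simp⟩
    | zero => exact ⟨1, 0, one_ne_zero, J'.zero_mem, by simp⟩
    | add x y _ _ hx hy =>
      obtain ⟨s, a, hs, hmem, ha⟩ := hx
      obtain ⟨t, b, ht, hmem', hb⟩ := hy
      refine ⟨t * s, t • a + s • b, mul_ne_zero ht hs,
        J'.add_mem (Submodule.smul_of_tower_mem J' t hmem)
          (Submodule.smul_of_tower_mem J' s hmem'), ?_⟩
      rw [map_add, map_smul, map_smul, ← ha, ← hb, smul_add, map_mul,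
        ← algebraMap_smul K t ((algebraMap R K s) • x),
        ← algebraMap_smul K s ((algebraMap R K t) • y),
        smul_smul, smul_smul, mul_comm (algebraMap R K s) (algebraMap R K t)]
    | smul w x _ hx =>
      obtain ⟨s, a, hs, hmem, ha⟩ := hx
      obtain ⟨t, c, ht, hc⟩ := exists_eq w
      refine ⟨t * s, c * a, mul_ne_zero ht hs, J'.mul_mem_left c hmem, ?_⟩
      rw [map_mul (incl R K A), ← hc, ← ha, smul_eq_mul, smul_mul_smul_comm, map_mul]
  · rintro ⟨s, b, hs, hb, h⟩
    have : (algebraMap R K s)⁻¹ • (algebraMap R K s • z) = z := inv_smul_smul₀ (aux_ne K hs) z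
    rw [← this, h, Algebra.smul_def]
    exact Ideal.mul_mem_left _ _ (Ideal.mem_map_of_mem _ hb)

lemma incl_injective [Module.Flat R A] : Function.Injective (incl R K A) := by
  have h := Module.Flat.rTensor_preserves_injective_linearMap (M := A)
    (Algebra.linearMap R K) (IsFractionRing.injective R K)
  intro a b hab
  apply (TensorProduct.lid R A).symm.injective
  apply h
  simpa using hab

lemma map_comap_eq (J : Ideal (K ⊗[R] A)) : (J.comap (incl R K A)).map (incl R K A) = J := by
  refine le_antisymm Ideal.map_comap_le fun z hz => ?_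
  obtain ⟨s, a, hs, ha⟩ := exists_eq z
  refine (mem_map_iff _ _).2 ⟨s, a, hs, ?_, ha⟩
  rw [Ideal.mem_comap, ← ha]
  exact Submodule.smul_of_tower_mem J _ hz

lemma comap_map_eq [Module.Flat R A] (J' : Ideal A) [Module.Flat R (A ⧸ J')] :
    (J'.map (incl R K A)).comap (incl R K A) = J' := by
  refine le_antisymm (fun a ha => ?_) Ideal.le_comap_map
  obtain ⟨s, b, hs, hb, h⟩ := (mem_map_iff _ _).1 (Ideal.mem_comap.1 ha)
  rw [algebraMap_smul, ← map_smul] at h
  have h2 : s • (Ideal.Quotient.mk J' a) = 0 := by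
    show Ideal.Quotient.mk J' (s • a) = 0
    rw [incl_injective h]
    exact Ideal.Quotient.eq_zero_iff_mem.2 hb
  rw [smul_eq_zero] at h2
  exact Ideal.Quotient.eq_zero_iff_mem.1 (h2.resolve_left hs)

lemma counit_incl (a : A) :
    counit (R := K) (incl R K A a) = algebraMap R K (counit (R := R) a) := by
  show counit (R := K) ((1 : K) ⊗ₜ[R] a) = _
  rw [TensorProduct.counit_tmul, Bialgebra.counit_one, Algebra.algebraMap_eq_smul_one]

lemma antipode_incl (a : A) :
    antipode K (incl R K A a) = incl R K A (antipode R a) := by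
  show antipode K ((1 : K) ⊗ₜ[R] a) = (1 : K) ⊗ₜ[R] antipode R a
  rw [TensorProduct.antipode_def, AlgebraTensorModule.map_tmul, HopfAlgebra.antipode_one]

section psi

variable (J : Ideal (K ⊗[R] A))

/-- `A → (K ⊗ A) ⧸ J` -/
noncomputable def qincl : A →ₗ[R] (K ⊗[R] A) ⧸ J :=
  ((Ideal.Quotient.mkₐ R J).comp (incl R K A)).toLinearMap

/-- `A ⊗ A → Q ⊗_K Q` -/
noncomputable def psi : A ⊗[R] A →ₗ[R] ((K ⊗[R] A) ⧸ J) ⊗[K] ((K ⊗[R] A) ⧸ J) :=
  TensorProduct.mapOfCompatibleSMul K R R _ _ ∘ₗ TensorProduct.map (qincl J) (qincl J)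

lemma map_comul_incl (a : A) :
    TensorProduct.map (J.restrictScalars K).mkQ (J.restrictScalars K).mkQ
      (comul (R := K) (incl R K A a)) = psi J (comul (R := R) a) := by
  show TensorProduct.map _ _ (comul (R := K) ((1 : K) ⊗ₜ[R] a)) = _
  rw [TensorProduct.comul_tmul, Bialgebra.comul_one]
  generalize comul (R := R) a = t
  induction t with
  | zero => simp only [tmul_zero, map_zero]; rfl
  | tmul x y => rfl
  | add x y hx hy =>
    simp only [tmul_add, map_add] at hx hy ⊢
    exact (congrArg₂ (· + ·) hx hy)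

end psi

lemma isHopfIdeal_comap [IsDedekindDomain R] [Module.Flat R A] (J : Ideal (K ⊗[R] A))
    (hJ : J.IsHopfIdeal K) :
    (J.comap (incl R K A)).IsHopfIdeal R ∧ Module.Flat R (A ⧸ J.comap (incl R K A)) := by
  set J' := J.comap (incl R K A) with hJ'
  let f : (A ⧸ J') →ₗ[R] (K ⊗[R] A) ⧸ J := (J'.restrictScalars R).liftQ (qincl J) fun a ha =>
    Ideal.Quotient.eq_zero_iff_mem.2 ha
  have hf : Function.Injective f := by
    rw [← LinearMap.ker_eq_bot, LinearMap.ker_eq_bot']
    intro x
    induction x using Quotient.inductionOn' with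
    | _ a =>
      intro h
      exact Ideal.Quotient.eq_zero_iff_mem.2 (Ideal.mem_comap.2 (Ideal.Quotient.eq_zero_iff_mem.1 h))
  haveI : Module.Flat R K := IsLocalization.flat K R⁰
  haveI hQ : Module.Flat R ((K ⊗[R] A) ⧸ J) := Module.Flat.trans R K _
  haveI : Module.IsTorsionFree R (A ⧸ J') :=
    hf.moduleIsTorsionFree f (fun r x => map_smul f r x)
  haveI hflat : Module.Flat R (A ⧸ J') := inferInstance
  refine ⟨{ counit_eq_zero := ?_, map_mkQ_comul_eq_zero := ?_, antipode_mem := ?_ }, hflat⟩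
  · intro a ha
    have h := hJ.toIsCoideal.counit_eq_zero (show incl R K A a ∈ J from ha)
    rw [counit_incl] at h
    exact (map_eq_zero_iff _ (IsFractionRing.injective R K)).1 h
  · intro a ha
    have h := hJ.toIsCoideal.map_mkQ_comul_eq_zero (show incl R K A a ∈ J from ha)
    rw [map_comul_incl] at h
    have hfac : psi J = TensorProduct.mapOfCompatibleSMul K R R _ _ ∘ₗ TensorProduct.map f f ∘ₗ
        TensorProduct.map (J'.restrictScalars R).mkQ (J'.restrictScalars R).mkQ := by
      rw [psi, ← TensorProduct.map_comp]; rfl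
    rw [hfac] at h
    have hinj1 : Function.Injective (TensorProduct.map f f) := by
      have : TensorProduct.map f f = f.lTensor _ ∘ₗ f.rTensor _ := by
        rw [LinearMap.lTensor_comp_rTensor]
      rw [this, LinearMap.coe_comp]
      exact (Module.Flat.lTensor_preserves_injective_linearMap f hf).comp
        (Module.Flat.rTensor_preserves_injective_linearMap f hf)
    have hinj2 : Function.Injective
        (TensorProduct.mapOfCompatibleSMul K R R ((K ⊗[R] A) ⧸ J) ((K ⊗[R] A) ⧸ J)) := by
      haveI := IsLocalization.tensorProduct_compatibleSMul R⁰ K ((K ⊗[R] A) ⧸ J) ((K ⊗[R] A) ⧸ J)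
      exact (TensorProduct.equivOfCompatibleSMul K R R
        ((K ⊗[R] A) ⧸ J) ((K ⊗[R] A) ⧸ J)).injective
    exact (map_eq_zero_iff _ hinj1).1 ((map_eq_zero_iff _ hinj2).1 h)
  · intro a ha
    rw [hJ', Ideal.mem_comap, ← antipode_incl]
    exact hJ.antipode_mem (show incl R K A a ∈ J from ha)

lemma isHopfIdeal_map (J' : Ideal A) (hJ : J'.IsHopfIdeal R) :
    (J'.map (incl R K A)).IsHopfIdeal K := by
  set J := J'.map (incl R K A)
  have key : ∀ {N : Type u} [AddCommGroup N] [Module K N] (φ : K ⊗[R] A →ₗ[K] N),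
      (∀ b ∈ J', φ (incl R K A b) = 0) → ∀ z ∈ J, φ z = 0 := by
    intro N _ _ φ hφ z hz
    obtain ⟨s, b, hs, hb, h⟩ := (mem_map_iff _ _).1 hz
    have := hφ b hb
    rw [← h, map_smul, smul_eq_zero] at this
    exact this.resolve_left (aux_ne K hs)
  refine { counit_eq_zero := ?_, map_mkQ_comul_eq_zero := ?_, antipode_mem := ?_ }
  · refine key _ fun b hb => ?_
    rw [counit_incl, hJ.toIsCoideal.counit_eq_zero hb, map_zero]
  · refine key ((TensorProduct.map (J.restrictScalars K).mkQ (J.restrictScalars K).mkQ).comp comul)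
      fun b hb => ?_
    rw [LinearMap.comp_apply, map_comul_incl]
    let f : (A ⧸ J') →ₗ[R] (K ⊗[R] A) ⧸ J := (J'.restrictScalars R).liftQ (qincl J) fun a ha =>
      Ideal.Quotient.eq_zero_iff_mem.2 (Ideal.mem_map_of_mem _ ha)
    have hfac : psi J = TensorProduct.mapOfCompatibleSMul K R R _ _ ∘ₗ TensorProduct.map f f ∘ₗ
        TensorProduct.map (J'.restrictScalars R).mkQ (J'.restrictScalars R).mkQ := by
      rw [psi, ← TensorProduct.map_comp]; rfl
    rw [hfac, LinearMap.comp_apply, LinearMap.comp_apply]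
    refine (congrArg _ (congrArg _ (hJ.toIsCoideal.map_mkQ_comul_eq_zero hb))).trans ?_
    exact (congrArg _ (map_zero _)).trans (map_zero _)
  · intro z hz
    refine Ideal.Quotient.eq_zero_iff_mem.1
      (key ((Ideal.Quotient.mkₐ K J).toLinearMap.comp (antipode K)) (fun b hb => ?_) z hz)
    rw [LinearMap.comp_apply, antipode_incl]
    exact Ideal.Quotient.eq_zero_iff_mem.2 (Ideal.mem_map_of_mem _ (hJ.antipode_mem hb))

theorem bijOn [IsDedekindDomain R] [Module.Flat R A] :
    Set.BijOn (fun J' : Ideal A => J'.map (incl R K A))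
      {J' : Ideal A | J'.IsHopfIdeal R ∧ Module.Flat R (A ⧸ J')}
      {J : Ideal (K ⊗[R] A) | J.IsHopfIdeal K} := by
  refine Set.InvOn.bijOn (f' := fun J => J.comap (incl R K A)) ⟨?_, ?_⟩ ?_ ?_
  · rintro J' ⟨_, h2⟩
    haveI := h2
    exact comap_map_eq J'
  · intro J _
    exact map_comap_eq J
  · rintro J' ⟨h1, _⟩
    exact isHopfIdeal_map J' h1
  · intro J hJ
    exact isHopfIdeal_comap J hJ

end Groth.Agent.HopfGenFib
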